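import Mathlib.Algebra.Homology.ShortComplex.HomologicalComplex
import Mathlib.Algebra.Homology.HomologicalComplexAbelian
import Mathlib.CategoryTheory.Abelian.Refinements
import Mathlib.CategoryTheory.Preadditive.Injective.Basic

/-!
# Injective objects among cochain complexes indexed by ℕ
-/

set_option autoImplicit false
set_option linter.style.haveILetI false
universe v u

open CategoryTheory CategoryTheory.Limits

namespace Groth.Agent.InjCx

variable {C : Type u} [Category.{v} C] [Abelian C]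

lemma injective_of_split (Q : CochainComplex C ℕ) (hinj : ∀ i : ℕ, Injective (Q.X i))
    (hac : ∀ i : ℕ, IsZero (Q.homology (i + 1))) (hsplit : ∀ i : ℕ, IsSplitMono (Q.iCycles i)) :
    Injective Q := by
  let r : ∀ i, Q.X i ⟶ Q.cycles i := fun i => haveI := hsplit i; retraction (Q.iCycles i)
  have hr : ∀ i, Q.iCycles i ≫ r i = 𝟙 _ := fun i => haveI := hsplit i; IsSplitMono.id (Q.iCycles i)
  have hepi : ∀ i, Epi (Q.toCycles i (i + 1)) := fun i =>
    Preadditive.epi_of_isZero_cokernel' _ (Q.homologyIsCokernel i (i + 1) (by simp)) (hac i)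
  have hic : ∀ i, Q.iCycles i ≫ Q.toCycles i (i + 1) = 0 := fun i => by
    rw [← cancel_mono (Q.iCycles (i + 1)), Category.assoc, Q.toCycles_i, Q.iCycles_d, zero_comp]
  let S : ℕ → ShortComplex C := fun i => ShortComplex.mk (Q.iCycles i) (Q.toCycles i (i + 1)) (hic i)
  have hex : ∀ i, (S i).Exact := fun i => by
    refine ShortComplex.exact_of_f_is_kernel _ (KernelFork.IsLimit.ofι' _ _ fun {T} k hk => ?_)
    refine ⟨Q.liftCycles k (i + 1) (by simp) ?_, Q.liftCycles_i _ _ _ _⟩
    rw [← Q.toCycles_i i (i + 1), ← Category.assoc, show k ≫ Q.toCycles i (i + 1) = 0 from hk, zero_comp]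
  have hs : ∀ i, ∃ s : Q.cycles (i + 1) ⟶ Q.X i, Q.toCycles i (i + 1) ≫ s = 𝟙 _ - r i ≫ Q.iCycles i := by
    intro i
    haveI : Epi (S i).g := hepi i
    have hz : (S i).f ≫ (𝟙 (Q.X i) - r i ≫ Q.iCycles i) = 0 := by
      show Q.iCycles i ≫ (𝟙 (Q.X i) - r i ≫ Q.iCycles i) = 0
      rw [Preadditive.comp_sub, Category.comp_id, ← Category.assoc, hr, Category.id_comp, sub_self]
    exact ⟨(hex i).desc _ hz, (hex i).g_desc _ hz⟩
  choose s hs using hs
  haveI hZ : ∀ i, Injective (Q.cycles i) := fun i =>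
    haveI := hinj i
    Retract.injective (⟨Q.iCycles i, r i, hr i⟩ : Retract (Q.cycles i) (Q.X i))
  refine ⟨fun {A B} g f _ => ?_⟩
  have hsd : ∀ i, s i ≫ Q.d i (i + 1) = Q.iCycles (i + 1) := fun i => by
    haveI := hepi i
    rw [← cancel_epi (Q.toCycles i (i + 1)), ← Category.assoc, hs, Preadditive.sub_comp, Category.id_comp,
      Category.assoc, Q.iCycles_d, comp_zero, sub_zero, Q.toCycles_i]
  let p : ∀ i, B.X i ⟶ Q.cycles i := fun i => Injective.factorThru (g.f i ≫ r i) (f.f i)
  have hp : ∀ i, f.f i ≫ p i = g.f i ≫ r i := fun i => Injective.comp_factorThru _ _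
  let h : B ⟶ Q :=
    { f := fun i => p i ≫ Q.iCycles i + B.d i (i + 1) ≫ p (i + 1) ≫ s i
      comm' := fun i j hij => by
        obtain rfl : i + 1 = j := hij
        simp only [Preadditive.add_comp, Preadditive.comp_add, Category.assoc, Q.iCycles_d, comp_zero,
          zero_add, hsd, HomologicalComplex.d_comp_d_assoc, zero_comp, add_zero] }
  refine ⟨h, ?_⟩
  ext i
  show f.f i ≫ (p i ≫ Q.iCycles i + B.d i (i + 1) ≫ p (i + 1) ≫ s i) = g.f i
  rw [Preadditive.comp_add, ← Category.assoc, hp, f.comm_assoc, ← Category.assoc (f.f (i + 1)), hp,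
    Category.assoc, Category.assoc, ← g.comm_assoc, ← Q.toCycles_i i (i + 1), Category.assoc,
    reassoc_of% hr (i + 1), hs, ← Preadditive.comp_add, add_sub_cancel, Category.comp_id]

lemma exists_split [EnoughInjectives C] (A : CochainComplex C ℕ) :
    ∃ (Q : CochainComplex C ℕ) (f : A ⟶ Q), Mono f ∧ (∀ i : ℕ, Injective (Q.X i)) ∧
      (∀ i : ℕ, IsZero (Q.homology (i + 1))) ∧ ∀ i : ℕ, IsSplitMono (Q.iCycles i) := by
  let Q : CochainComplex C ℕ := CochainComplex.of
    (fun i => Injective.under (A.X i) ⊞ Injective.under (A.X (i + 1)))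
    (fun i => biprod.snd ≫ biprod.inl)
    (fun i => by simp)
  have hd : ∀ i, Q.d i (i + 1) = biprod.snd ≫ biprod.inl := fun i => by simp [Q]
  let f : A ⟶ Q :=
    { f := fun i => biprod.lift (Injective.ι (A.X i)) (A.d i (i + 1) ≫ Injective.ι (A.X (i + 1)))
      comm' := fun i j hij => by
        obtain rfl : i + 1 = j := hij
        rw [hd]
        apply biprod.hom_ext <;> simp }
  have hmono : ∀ i, Mono (f.f i) := fun i => by
    haveI : Mono (f.f i ≫ biprod.fst) := by
      rw [show f.f i ≫ biprod.fst = Injective.ι (A.X i) from biprod.lift_fst _ _]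
      infer_instance
    exact mono_of_mono (f.f i) biprod.fst
  refine ⟨Q, f, HomologicalComplex.mono_of_mono_f f hmono,
    fun i => inferInstanceAs (Injective (_ ⊞ _)), fun i => ?_, fun i => ?_⟩
  · rw [← HomologicalComplex.exactAt_iff_isZero_homology,
      Q.exactAt_iff' i (i + 1) (i + 2) (by simp) (by simp), ShortComplex.exact_iff_exact_up_to_refinements]
    intro T x hx
    let x' : T ⟶ Injective.under (A.X (i + 1)) ⊞ Injective.under (A.X (i + 1 + 1)) := x
    have h1 : x' ≫ Q.d (i + 1) (i + 1 + 1) = 0 := hx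
    rw [hd] at h1
    have hs : x' ≫ biprod.snd = 0 :=
      zero_of_comp_mono (biprod.inl : _ ⟶ Injective.under (A.X (i + 1 + 1)) ⊞ Injective.under (A.X (i + 1 + 1 + 1)))
        ((Category.assoc _ _ _).trans h1)
    let y : T ⟶ Injective.under (A.X i) ⊞ Injective.under (A.X (i + 1)) := x' ≫ biprod.fst ≫ biprod.inr
    refine ⟨T, 𝟙 T, inferInstance, y, ?_⟩
    show 𝟙 T ≫ x' = y ≫ Q.d i (i + 1)
    rw [hd, Category.id_comp]
    apply biprod.hom_ext <;> simp [y, hs]
  · have hsnd : Q.iCycles i ≫ biprod.snd = 0 := by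
      have := Q.iCycles_d i (i + 1)
      rw [hd, ← Category.assoc] at this
      exact zero_of_comp_mono _ this
    refine IsSplitMono.mk' ⟨Q.liftCycles (biprod.fst ≫ biprod.inl) (i + 1) (by simp) (by rw [hd]; simp), ?_⟩
    rw [← cancel_mono (Q.iCycles i), Category.assoc, Q.liftCycles_i, Category.id_comp]
    apply biprod.hom_ext <;> simp [hsnd]

end Groth.Agent.InjCx
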